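import Cfsg.Agent.Mult.Slices
import Cfsg.Agent.TitsC.BaseD

set_option autoImplicit false
set_option Elab.async false
set_option maxRecDepth 100000
set_option linter.all false

namespace Cfsg.Agent.TitsC
open Cfsg.Agent.CGT

open Cfsg.Agent.Mult

set_option Elab.async false
theorem h_b8 : kf2.Chk ix (fun x y => Cfsg.Lie.chevF4.x (ZMod 2) (nth (0, 0) Es 8).1 (kf2.nm (nth (0, 0) Es 8).2) x y) (nth [] As 8) := by decide +kernel
theorem h_b9 : kf2.Chk ix (fun x y => Cfsg.Lie.chevF4.x (ZMod 2) (nth (0, 0) Es 9).1 (kf2.nm (nth (0, 0) Es 9).2) x y) (nth [] As 9) := by decide +kernel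
theorem h_b10 : kf2.Chk ix (fun x y => Cfsg.Lie.chevF4.x (ZMod 2) (nth (0, 0) Es 10).1 (kf2.nm (nth (0, 0) Es 10).2) x y) (nth [] As 10) := by decide +kernel
theorem h_b11 : kf2.Chk ix (fun x y => Cfsg.Lie.chevF4.x (ZMod 2) (nth (0, 0) Es 11).1 (kf2.nm (nth (0, 0) Es 11).2) x y) (nth [] As 11) := by decide +kernel

end Cfsg.Agent.TitsC
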