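import Cfsg.Agent.Mult.Slices
import Cfsg.Agent.TitsC.CertT0
import Cfsg.Agent.TitsC.CertT1

set_option autoImplicit false
set_option Elab.async false
set_option maxRecDepth 100000
set_option linter.all false

namespace Cfsg.Agent.TitsC
open Cfsg.Agent.CGT

open Cfsg.Agent.Mult

noncomputable def c_l0 : Level := ⟨0, [[0], [2], [4], [6], [8], [10], [12], [14], [16]], [0, 1, 2, 3, 4, 5, 6, 7, 8, 0, 2, 5, 0, 3, 1, 0], 0x7ffffffffffffffffffffffffffffffffffffffffffffffffffffffffffffffffffffffffffffffffffffffffffffffffffffffffffffffffffffffffffffffffffffffffffffffffffffffffffffffffffffffffffffffffffffffffffffffffffffffffffffffffffffffffffffffffffffffffffffffffffffffffffffffffffffffffffffffffffffffffffffffffffffffffffffffffffffffffffffffffffffffffffffffffffffffffffffffffffffffffffffffffffffffffffffffffffffffffffffffffffffffffffffffffffffffffffffffffffffff, 1755⟩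
noncomputable def c_l1 : Level := ⟨1, [[2], [4], [6], [8], [10], [12], [14], [16]], [0, 1, 0, 4, 1, 1, 0], 0x7fe, 10⟩
noncomputable def c_l2 : Level := ⟨3, [[4], [6], [8], [10], [12], [14], [16]], [0, 0, 3, 0, 0], 0x7f8, 8⟩
noncomputable def c_l3 : Level := ⟨7, [[6], [8], [10], [12], [14], [16]], [0], 0x180, 2⟩
noncomputable def c_l4 : Level := ⟨11, [[8], [10], [12], [14], [16]], [0, 1, 1, 1], 0x7f800, 8⟩
noncomputable def c_l5 : Level := ⟨43, [[12], [14], [16]], [0, 1], 0x780000000000, 4⟩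
noncomputable def c_l6 : Level := ⟨27, [[16]], [0], 0x28000000, 2⟩
noncomputable def c_ls : List Level := [c_l0, c_l1, c_l2, c_l3, c_l4, c_l5, c_l6]
theorem c_l0_ok : (ptsOK 11 [] && (wordsIn [0, 2, 4, 6, 8, 10, 12, 14, 16] c_l0.S && c_l0.ok 11 m_ns m_ts [])) = true := by decide +kernel
theorem c_l1_ok : (ptsOK 11 [0] && (wordsIn [0, 2, 4, 6, 8, 10, 12, 14, 16] c_l1.S && c_l1.ok 11 m_ns m_ts [0])) = true := by decide +kernel
theorem c_l2_ok : (ptsOK 11 [1, 0] && (wordsIn [0, 2, 4, 6, 8, 10, 12, 14, 16] c_l2.S && c_l2.ok 11 m_ns m_ts [1, 0])) = true := by decide +kernel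
theorem c_l3_ok : (ptsOK 11 [3, 1, 0] && (wordsIn [0, 2, 4, 6, 8, 10, 12, 14, 16] c_l3.S && c_l3.ok 11 m_ns m_ts [3, 1, 0])) = true := by decide +kernel
theorem c_l4_ok : (ptsOK 11 [7, 3, 1, 0] && (wordsIn [0, 2, 4, 6, 8, 10, 12, 14, 16] c_l4.S && c_l4.ok 11 m_ns m_ts [7, 3, 1, 0])) = true := by decide +kernel
theorem c_l5_ok : (ptsOK 11 [11, 7, 3, 1, 0] && (wordsIn [0, 2, 4, 6, 8, 10, 12, 14, 16] c_l5.S && c_l5.ok 11 m_ns m_ts [11, 7, 3, 1, 0])) = true := by decide +kernel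
theorem c_l6_ok : (ptsOK 11 [43, 11, 7, 3, 1, 0] && (wordsIn [0, 2, 4, 6, 8, 10, 12, 14, 16] c_l6.S && c_l6.ok 11 m_ns m_ts [43, 11, 7, 3, 1, 0])) = true := by decide +kernel
theorem c_sound {G : Type*} [Group G] {φ : G →* Equiv.Perm ℕ} {γ : ℕ → G}
    (M : Model φ γ 11 m_ns m_ts) : ChainSound φ (gp γ [0, 2, 4, 6, 8, 10, 12, 14, 16]) 11 [] c_ls :=
  ⟨Level.ok_sound' M c_l0_ok,
   Level.ok_sound' M c_l1_ok,
   Level.ok_sound' M c_l2_ok,
   Level.ok_sound' M c_l3_ok,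
   Level.ok_sound' M c_l4_ok,
   Level.ok_sound' M c_l5_ok,
   Level.ok_sound' M c_l6_ok, trivial⟩
theorem cert (hF : Fintype.card (ZMod 2) = 2) :
    ∃ (γ : ℕ → Cfsg.Lie.TitsGroup) (φ : _), CGT.Cert φ γ 11 m_ns m_ts [0, 2, 4, 6, 8, 10, 12, 14, 16] c_ls ∧ Holds (ext γ) qRR :=
  Co.Base.cert (C := stdCo kf2 ix (RingHom.id _)) (base1) h_der h_gen (scal_std h_sc) h_len
    (uniq_two hF h_len h_red) m_v h_fix (by decide +kernel)
    (fun j hj => by
    change j < 9 at hj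
    interval_cases j
    exacts [h_a0, h_a1, h_a2, h_a3, h_a4, h_a5, h_a6, h_a7, h_a8]) m_ts_ok (fun _ _ M => c_sound M) (allL_iff.1 h_r0) (fun _ h => qbd0 h) (by decide +kernel)

end Cfsg.Agent.TitsC
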