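import Cfsg.Agent.Mult.Slices
import Cfsg.Agent.TitsC.Tabs

set_option autoImplicit false
set_option Elab.async false
set_option maxRecDepth 100000
set_option linter.all false

namespace Cfsg.Agent.TitsC
open Cfsg.Agent.CGT

open Cfsg.Agent.Mult

noncomputable def u2_D : PC := ⟨2, 11, 2, 24,
  [[0, 0x14, 0x110, 0x154540, 0x100, 0x10400, 0x5000, 0x4000, 0x10000, 0x140000, 0x100000], [0, 0x40, 0x410, 0x40, 0x44100, 0x1400, 0x45000, 0x14000, 0x50000, 0x140000, 0x100000], [0, 0, 0x100, 0x11040, 0x100, 0x154400, 0x11000, 0x104000, 0x110000, 0x40000, 0x100000], [0, 0, 0, 0x1100, 0x110100, 0x44400, 0x111000, 0x44000, 0x110000, 0x40000, 0x100000], [0, 0, 0, 0, 0, 0x400, 0x101000, 0x4000, 0x10000, 0x40000, 0x100000], [0, 0, 0, 0, 0, 0x10000, 0x41000, 0x104000, 0x10000, 0x40000, 0x100000], [0, 0, 0, 0, 0, 0, 0, 0x4000, 0x10000, 0x40000, 0x100000], [0, 0, 0, 0, 0, 0, 0, 0, 0x10000,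 0x40000, 0x100000], [0, 0, 0, 0, 0, 0, 0, 0, 0, 0x40000, 0x100000], [0, 0, 0, 0, 0, 0, 0, 0, 0, 0, 0x100000], [0, 0, 0, 0, 0, 0, 0, 0, 0, 0, 0]],
  [0x30f3f, 0xfff3, 0xff3, 0x3ff, 0xc, 0xf, 0, 0, 0, 0, 0],
  [(11, 1, 0x111000), (11, 0x100, 0x144000), (12, 5, 0x141510), (12, 0x40, 0x11045), (12, 0x100, 0x50), (12, 0x4000, 0x111000), (12, 0x10000, 0x50000), (12, 0x40000, 0x100000)], 23, 0x800070000030a0000020100040006090005⟩
noncomputable def u2_ds : List (List ℕ) := [[10, 5, 2, 5, 7, 4, 2, 4], [10, 6, 0, 11, 14, 0, 4, 2], [5, 0, 4, 0, 10, 8, 0, 4], [7, 0, 10, 5, 12, 0, 7], [0, 8, 11, 0, 7, 7, 0, 4], [4, 12, 2, 0, 7, 5, 0, 5, 2, 16], [8, 0, 10, 0, 6, 5, 11], [0, 12, 6, 4, 0, 11, 2, 4, 10], [14, 11, 0, 2, 11, 4, 4, 0, 8], [7, 4, 0, 11, 4, 10, 0, 12], [8, 5, 0, 2, 0, 4, 8], [5, 2, 16, 6, 0, 6, 0, 4, 10], [10, 0, 11, 5, 6, 4, 0, 8, 5]]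
noncomputable def u2_c : Mult.Cert := ⟨42, 22, [[], [], [1], [12], [2], [13], [16], [6], [18], [19], [9]],
  [],
  [[0x1e6386ea547cc10, 0, 0, 0x1f7103c18ec9ca8, 0x64290804000008, 0x13cb0374137f8c5, 0, 0x70002104000000, 0x108200000000, 0, 0x10200840000000], [0, 0, 0, 0x200000000000000, 0x4ba05941d95005, 0, 0x4ae01841c95005, 0, 0, 0x80c21ca5a35000, 0x10604d24200000], [0, 0, 0x64280814000008, 0x13ea04d60703385, 0x100000000000000, 0xf74072a5cdec80, 0x87483da1cfec00, 0x1e1327ea0218000, 0x91325fa4230000, 0x913a5fa4210000, 0x40000000000], [0, 0, 0, 0xc6b033d5bfaf8f, 0xf30245a9ab5000, 0x1aed86ee68e9c05, 0xf1025da1ab5000, 0x100200400000, 0x80421ca5235000, 0x404504200000, 0x8000000000000], [0, 0, 0, 0, 0x64280804000008, 0x1946835a523c400, 0x91225da5230000, 0x71000000000000, 0x40000000000000, 0x1000000000000, 0x10000000000000], [0, 0, 0, 0, 0, 0xda883d4537fe85, 0x1e57876a543cc00,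 0xf5120e21234000, 0x80000000000000, 0x1501280000000, 0x20000000000], [0, 0, 0, 0, 0, 0, 0x1e43876a547cc00, 0x70004104000000, 0x101200000000, 0x1400000000000, 0x10200000000000], [0, 0, 0, 0, 0, 0, 0, 0x70000104000000, 0x100000000000, 0x1400500000000, 0x4000000000000], [0, 0, 0, 0, 0, 0, 0, 0, 0x100200000000, 0x800000000000, 0x2000000000000], [0, 0, 0, 0, 0, 0, 0, 0, 0, 0x1400400000000, 0x80000000000], [0, 0, 0, 0, 0, 0, 0, 0, 0, 0, 0x10200800000000]]⟩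

end Cfsg.Agent.TitsC
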