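import Cfsg.Agent.TitsC.PresR
import Cfsg.Agent.TitsC.PresQL0

set_option autoImplicit false
set_option Elab.async false
set_option maxRecDepth 100000
set_option linter.all false

namespace Cfsg.Agent.TitsC
open Cfsg.Agent.CGT

noncomputable def ql1_n1 : Net := Net.cons 4 0xc <|
  Net.cons 1 0x105 <|
  Net.cons 2 0x20 <|
  Net.cons 4 0xc <|
  Net.nil
noncomputable def ql1_n2 : Net := Net.cons 8 0xd0 <|
  Net.cons 4 0xc0c <|
  Net.cons 2 0x200 <|
  Net.cons 1 0x140 <|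
  Net.cons 2 0x320 <|
  Net.cons 4 0xd0e <|
  Net.cons 8 0xd0 <|
  Net.nil
noncomputable def ql1_n3 : Net := Net.cons 4 0x4 <|
  Net.cons 1 0x4 <|
  Net.cons 2 0x10 <|
  Net.cons 4 0x4 <|
  Net.nil
noncomputable def ql1_n5 : Net := Net.cons 4 0x4 <|
  Net.cons 1 0x4 <|
  Net.cons 2 0x20 <|
  Net.cons 4 0x4 <|
  Net.nil
noncomputable def ql1_ns : List Net := [Net.nil, ql1_n1, ql1_n2, ql1_n3, Net.nil, ql1_n5, Net.nil, Net.nil, Net.nil]
noncomputable def ql1_R : List (List ℕ) := [[2, 2], [8, 8], [12, 12], [14, 14], [16, 16], [16, 14, 16, 14], [12, 14, 12, 14], [12, 16, 12, 16], [11, 14, 10, 14], [11, 16, 10, 16], [11, 11, 11, 11], [12, 11, 12, 10, 14], [8, 12, 8, 12], [8, 16, 8, 16], [11, 8, 10, 8, 14], [7, 16, 6, 16], [11, 7, 7, 8, 11], [12, 6, 10, 6, 10], [10, 4, 6, 5, 8], [14, 5, 8, 4, 8, 12], [16, 8, 12, 4, 8, 5], [5, 5, 5, 5, 14, 16], [5, 10, 7, 5, 5, 10, 7, 5], [2, 10, 2, 10], [11, 2, 6,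 2, 6, 12], [2, 5, 12, 2, 4, 2, 5, 5]]
noncomputable def ql1_S0 : List (List ℕ) := [[4], [6], [8], [10], [12], [14], [16]]
noncomputable def ql1_E : Enum := ⟨ql1_ns, ql1_R, ql1_S0, [], 0⟩
theorem ql1_v : validAll (2 ^ 4) ql1_ns = true := by decide +kernel
theorem ql1_p0 : holdsB 4 ql1_ns ql1_R = true := by decide +kernel
theorem ql1_p : Holds (lp ql1_ns) ql1_R := holdsB_sound ql1_v ql1_p0
theorem ql1_f : allL ql1_E.Sub (fixN ql1_E.ns ql1_E.b0) = true := by decide +kernel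
theorem ql1_r0 : ql1_E.run [10, 0, 18, 17, 22, 21, 26, 25, 42, 41, 10, 0, 18, 17, 10, 0, 4188, 41, 3, 17, 7, 25, 11, 15, 41, 19, 23, 27, 4188, 41, 8288, 25, 20576, 16428, 12352, 8264, 25, 8268, 72, 41, 16440, 8256, 29, 24676, 21, 28772, 21, 20564, 4156, 8272, 16464, 64, 45, 8260, 41, 4188, 41, 12352, 68, 16428, 8268, 4168, 17, 16456, 16440, 20556, 80, 4132, 44, 16480, 25, 4160, 29, 4168, 17, 16456, 16440, 20556, 80, 8276, 21, 20564, 8288, 25, 20576, 8264, 25, 8268, 72, 41, 4188, 41, 16440, 68, 80, 8288, 25, 20576, 16428, 12352, 100, 4196, 21, 80] (1 <<< 0) (List.replicate 18 0) (Enum.done 10 [2, 4, 6, 8, 10, 12, 14, 16]) = true := by decide +kernel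
theorem ql1_fin {G : Type*} [Group G] {γ : ℕ → G} (hR : Holds (ext γ) ql1_R) {H : Subgroup G}
    (hS : ∀ u ∈ ql1_S0, ev (ext γ) u ∈ H) : ql1_E.Fin γ H 10 [2, 4, 6, 8, 10, 12, 14, 16] :=
  have hy : ql1_E.Hyp γ H := Enum.hyp_of ql1_v hR ql1_p hS ql1_f
  (Enum.fin_of_done hy (Enum.inv_init 18) ql1_r0)
noncomputable def ql2_n2 : Net := Net.cons 4 0xa <|
  Net.cons 2 0x20 <|
  Net.cons 1 0x44 <|
  Net.cons 2 0x32 <|
  Net.cons 4 0x5 <|
  Net.nil
noncomputable def ql2_n3 : Net := Net.cons 4 0x4 <|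
  Net.cons 2 0x20 <|
  Net.cons 1 0x40 <|
  Net.cons 2 0x22 <|
  Net.cons 4 0x4 <|
  Net.nil
noncomputable def ql2_n5 : Net := Net.cons 4 0x2 <|
  Net.cons 2 0x2 <|
  Net.cons 1 0x4 <|
  Net.cons 2 0x12 <|
  Net.cons 4 0x2 <|
  Net.nil
noncomputable def ql2_ns : List Net := [Net.nil, Net.nil, ql2_n2, ql2_n3, Net.nil, ql2_n5, Net.nil, Net.nil, Net.nil]
noncomputable def ql2_R : List (List ℕ) := [[8, 8], [12, 12], [14, 14], [16, 16], [16, 14, 16, 14], [12, 14, 12, 14], [12, 16, 12, 16], [11, 14, 10, 14], [11, 16, 10, 16], [11, 11, 11, 11], [12, 11, 12, 10, 14], [8, 12, 8, 12], [8, 16, 8, 16], [11, 8, 10, 8, 14], [7, 16, 6, 16], [11, 7, 7, 8, 11], [12, 6, 10, 6, 10], [10, 4, 6, 5, 8], [14, 5, 8, 4, 8, 12], [16, 8, 12, 4, 8, 5], [5, 5, 5, 5, 14, 16], [5, 10, 7, 5, 5, 10, 7, 5]]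
noncomputable def ql2_S0 : List (List ℕ) := [[6], [8], [10], [12], [14], [16]]
noncomputable def ql2_E : Enum := ⟨ql2_ns, ql2_R, ql2_S0, [], 0⟩
theorem ql2_v : validAll (2 ^ 3) ql2_ns = true := by decide +kernel
theorem ql2_p0 : holdsB 3 ql2_ns ql2_R = true := by decide +kernel
theorem ql2_p : Holds (lp ql2_ns) ql2_R := holdsB_sound ql2_v ql2_p0
theorem ql2_f : allL ql2_E.Sub (fixN ql2_E.ns ql2_E.b0) = true := by decide +kernel
theorem ql2_r0 : ql2_E.run [18, 17, 22, 21, 26, 25, 42, 41, 18, 17, 3, 25, 7, 11, 41, 15, 19, 23, 8260, 25, 8264, 16460, 8272, 21, 60, 45, 68, 41, 16436, 8252, 29, 20560, 4152, 8268, 8256, 41, 12348, 64, 16424, 8264, 68, 41, 16436, 20552, 76, 4128, 40, 84, 21, 8276, 29, 4156, 29, 16452, 16436, 20552, 76, 8272, 21, 20560, 40, 4160, 25, 8260, 25, 8264, 68, 41, 16436, 64, 76] (1 <<< 0) (List.replicate 18 0) (Enum.done 8 [4, 6, 8, 10, 12, 14, 16]) = true := by decide +kernel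
theorem ql2_fin {G : Type*} [Group G] {γ : ℕ → G} (hR : Holds (ext γ) ql2_R) {H : Subgroup G}
    (hS : ∀ u ∈ ql2_S0, ev (ext γ) u ∈ H) : ql2_E.Fin γ H 8 [4, 6, 8, 10, 12, 14, 16] :=
  have hy : ql2_E.Hyp γ H := Enum.hyp_of ql2_v hR ql2_p hS ql2_f
  (Enum.fin_of_done hy (Enum.inv_init 18) ql2_r0)
noncomputable def ql3_n3 : Net := Net.cons 1 0x1 <|
  Net.nil
noncomputable def ql3_ns : List Net := [Net.nil, Net.nil, Net.nil, ql3_n3, Net.nil, Net.nil, Net.nil, Net.nil, Net.nil]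
noncomputable def ql3_R : List (List ℕ) := [[8, 8], [12, 12], [14, 14], [16, 16], [16, 14, 16, 14], [12, 14, 12, 14], [12, 16, 12, 16], [11, 14, 10, 14], [11, 16, 10, 16], [11, 11, 11, 11], [12, 11, 12, 10, 14], [8, 12, 8, 12], [8, 16, 8, 16], [11, 8, 10, 8, 14], [7, 16, 6, 16], [11, 7, 7, 8, 11], [12, 6, 10, 6, 10]]
noncomputable def ql3_S0 : List (List ℕ) := [[8], [10], [12], [14], [16]]
noncomputable def ql3_E : Enum := ⟨ql3_ns, ql3_R, ql3_S0, [], 0⟩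
theorem ql3_v : validAll (2 ^ 3) ql3_ns = true := by decide +kernel
theorem ql3_p0 : holdsB 3 ql3_ns ql3_R = true := by decide +kernel
theorem ql3_p : Holds (lp ql3_ns) ql3_R := holdsB_sound ql3_v ql3_p0
theorem ql3_f : allL ql3_E.Sub (fixN ql3_E.ns ql3_E.b0) = true := by decide +kernel
theorem ql3_r0 : ql3_E.run [26, 25, 3, 7, 41, 11, 15, 19, 4152, 8252, 29, 8256, 41, 12348, 64, 16424] (1 <<< 0) (List.replicate 18 0) (Enum.done 2 [6, 8, 10, 12, 14, 16]) = true := by decide +kernel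
theorem ql3_fin {G : Type*} [Group G] {γ : ℕ → G} (hR : Holds (ext γ) ql3_R) {H : Subgroup G}
    (hS : ∀ u ∈ ql3_S0, ev (ext γ) u ∈ H) : ql3_E.Fin γ H 2 [6, 8, 10, 12, 14, 16] :=
  have hy : ql3_E.Hyp γ H := Enum.hyp_of ql3_v hR ql3_p hS ql3_f
  (Enum.fin_of_done hy (Enum.inv_init 18) ql3_r0)
noncomputable def ql4_n4 : Net := Net.cons 1 0x1 <|
  Net.nil
noncomputable def ql4_ns : List Net := [Net.nil, Net.nil, Net.nil, Net.nil, ql4_n4, Net.nil, Net.nil, Net.nil, Net.nil]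
noncomputable def ql4_R : List (List ℕ) := [[8, 8], [12, 12], [14, 14], [16, 16], [16, 14, 16, 14], [12, 14, 12, 14], [12, 16, 12, 16], [11, 14, 10, 14], [11, 16, 10, 16], [11, 11, 11, 11], [12, 11, 12, 10, 14], [8, 12, 8, 12], [8, 16, 8, 16], [11, 8, 10, 8, 14]]
noncomputable def ql4_S0 : List (List ℕ) := [[10], [12], [14], [16]]
noncomputable def ql4_E : Enum := ⟨ql4_ns, ql4_R, ql4_S0, [], 0⟩
theorem ql4_v : validAll (2 ^ 3) ql4_ns = true := by decide +kernel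
theorem ql4_p0 : holdsB 3 ql4_ns ql4_R = true := by decide +kernel
theorem ql4_p : Holds (lp ql4_ns) ql4_R := holdsB_sound ql4_v ql4_p0
theorem ql4_f : allL ql4_E.Sub (fixN ql4_E.ns ql4_E.b0) = true := by decide +kernel
theorem ql4_r0 : ql4_E.run [34, 0, 3, 41, 7, 11, 15, 4140, 4144, 8244, 41, 16436] (1 <<< 0) (List.replicate 18 0) (Enum.done 2 [8, 10, 12, 14, 16]) = true := by decide +kernel
theorem ql4_fin {G : Type*} [Group G] {γ : ℕ → G} (hR : Holds (ext γ) ql4_R) {H : Subgroup G}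
    (hS : ∀ u ∈ ql4_S0, ev (ext γ) u ∈ H) : ql4_E.Fin γ H 2 [8, 10, 12, 14, 16] :=
  have hy : ql4_E.Hyp γ H := Enum.hyp_of ql4_v hR ql4_p hS ql4_f
  (Enum.fin_of_done hy (Enum.inv_init 18) ql4_r0)
noncomputable def ql5_n5 : Net := Net.cons 1 0x5 <|
  Net.cons 2 0x2 <|
  Net.nil
noncomputable def ql5_ns : List Net := [Net.nil, Net.nil, Net.nil, Net.nil, Net.nil, ql5_n5, Net.nil, Net.nil, Net.nil]
noncomputable def ql5_R : List (List ℕ) := [[12, 12], [14, 14], [16, 16], [16, 14, 16, 14], [12, 14, 12, 14], [12, 16, 12, 16], [11, 14, 10, 14], [11, 16, 10, 16], [11, 11, 11, 11], [12, 11, 12, 10, 14]]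
noncomputable def ql5_S0 : List (List ℕ) := [[12], [14], [16]]
noncomputable def ql5_E : Enum := ⟨ql5_ns, ql5_R, ql5_S0, [], 0⟩
theorem ql5_v : validAll (2 ^ 3) ql5_ns = true := by decide +kernel
theorem ql5_p0 : holdsB 3 ql5_ns ql5_R = true := by decide +kernel
theorem ql5_p : Holds (lp ql5_ns) ql5_R := holdsB_sound ql5_v ql5_p0
theorem ql5_f : allL ql5_E.Sub (fixN ql5_E.ns ql5_E.b0) = true := by decide +kernel
theorem ql5_r0 : ql5_E.run [42, 41, 46, 45, 42, 41, 32, 45, 3, 7, 11, 4120, 12312, 4124, 12316, 4120, 4124, 36, 8228, 36] (1 <<< 0) (List.replicate 18 0) (Enum.done 4 [10, 12, 14, 16]) = true := by decide +kernel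
theorem ql5_fin {G : Type*} [Group G] {γ : ℕ → G} (hR : Holds (ext γ) ql5_R) {H : Subgroup G}
    (hS : ∀ u ∈ ql5_S0, ev (ext γ) u ∈ H) : ql5_E.Fin γ H 4 [10, 12, 14, 16] :=
  have hy : ql5_E.Hyp γ H := Enum.hyp_of ql5_v hR ql5_p hS ql5_f
  (Enum.fin_of_done hy (Enum.inv_init 18) ql5_r0)
noncomputable def ql6_n6 : Net := Net.cons 1 0x1 <|
  Net.nil
noncomputable def ql6_ns : List Net := [Net.nil, Net.nil, Net.nil, Net.nil, Net.nil, Net.nil, ql6_n6, Net.nil, Net.nil]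
noncomputable def ql6_R : List (List ℕ) := [[12, 12], [14, 14], [16, 16], [16, 14, 16, 14], [12, 14, 12, 14], [12, 16, 12, 16]]
noncomputable def ql6_S0 : List (List ℕ) := [[14], [16]]
noncomputable def ql6_E : Enum := ⟨ql6_ns, ql6_R, ql6_S0, [], 0⟩
theorem ql6_v : validAll (2 ^ 3) ql6_ns = true := by decide +kernel
theorem ql6_p0 : holdsB 3 ql6_ns ql6_R = true := by decide +kernel
theorem ql6_p : Holds (lp ql6_ns) ql6_R := holdsB_sound ql6_v ql6_p0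
theorem ql6_f : allL ql6_E.Sub (fixN ql6_E.ns ql6_E.b0) = true := by decide +kernel
theorem ql6_r0 : ql6_E.run [50, 0, 3, 7, 4112, 4116] (1 <<< 0) (List.replicate 18 0) (Enum.done 2 [12, 14, 16]) = true := by decide +kernel
theorem ql6_fin {G : Type*} [Group G] {γ : ℕ → G} (hR : Holds (ext γ) ql6_R) {H : Subgroup G}
    (hS : ∀ u ∈ ql6_S0, ev (ext γ) u ∈ H) : ql6_E.Fin γ H 2 [12, 14, 16] :=
  have hy : ql6_E.Hyp γ H := Enum.hyp_of ql6_v hR ql6_p hS ql6_f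
  (Enum.fin_of_done hy (Enum.inv_init 18) ql6_r0)
noncomputable def ql7_n7 : Net := Net.cons 1 0x1 <|
  Net.nil
noncomputable def ql7_ns : List Net := [Net.nil, Net.nil, Net.nil, Net.nil, Net.nil, Net.nil, Net.nil, ql7_n7, Net.nil]
noncomputable def ql7_R : List (List ℕ) := [[14, 14], [16, 16], [16, 14, 16, 14]]
noncomputable def ql7_S0 : List (List ℕ) := [[16]]
noncomputable def ql7_E : Enum := ⟨ql7_ns, ql7_R, ql7_S0, [], 0⟩
theorem ql7_v : validAll (2 ^ 3) ql7_ns = true := by decide +kernel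
theorem ql7_p0 : holdsB 3 ql7_ns ql7_R = true := by decide +kernel
theorem ql7_p : Holds (lp ql7_ns) ql7_R := holdsB_sound ql7_v ql7_p0
theorem ql7_f : allL ql7_E.Sub (fixN ql7_E.ns ql7_E.b0) = true := by decide +kernel
theorem ql7_r0 : ql7_E.run [58, 0, 3, 8] (1 <<< 0) (List.replicate 18 0) (Enum.done 2 [14, 16]) = true := by decide +kernel
theorem ql7_fin {G : Type*} [Group G] {γ : ℕ → G} (hR : Holds (ext γ) ql7_R) {H : Subgroup G}
    (hS : ∀ u ∈ ql7_S0, ev (ext γ) u ∈ H) : ql7_E.Fin γ H 2 [14, 16] :=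
  have hy : ql7_E.Hyp γ H := Enum.hyp_of ql7_v hR ql7_p hS ql7_f
  (Enum.fin_of_done hy (Enum.inv_init 18) ql7_r0)
noncomputable def ql8_n8 : Net := Net.cons 1 0x1 <|
  Net.nil
noncomputable def ql8_ns : List Net := [Net.nil, Net.nil, Net.nil, Net.nil, Net.nil, Net.nil, Net.nil, Net.nil, ql8_n8]
noncomputable def ql8_R : List (List ℕ) := [[16, 16]]
noncomputable def ql8_S0 : List (List ℕ) := []
noncomputable def ql8_E : Enum := ⟨ql8_ns, ql8_R, ql8_S0, [], 0⟩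
theorem ql8_v : validAll (2 ^ 3) ql8_ns = true := by decide +kernel
theorem ql8_p0 : holdsB 3 ql8_ns ql8_R = true := by decide +kernel
theorem ql8_p : Holds (lp ql8_ns) ql8_R := holdsB_sound ql8_v ql8_p0
theorem ql8_f : allL ql8_E.Sub (fixN ql8_E.ns ql8_E.b0) = true := by decide +kernel
theorem ql8_r0 : ql8_E.run [66, 0] (1 <<< 0) (List.replicate 18 0) (Enum.done 2 [16]) = true := by decide +kernel
theorem ql8_fin {G : Type*} [Group G] {γ : ℕ → G} (hR : Holds (ext γ) ql8_R) {H : Subgroup G}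
    (hS : ∀ u ∈ ql8_S0, ev (ext γ) u ∈ H) : ql8_E.Fin γ H 2 [16] :=
  have hy : ql8_E.Hyp γ H := Enum.hyp_of ql8_v hR ql8_p hS ql8_f
  (Enum.fin_of_done hy (Enum.inv_init 18) ql8_r0)
theorem qbd8 {G : Type*} [Group G] {γ : ℕ → G} (hR : Holds (ext γ) qRR) : Bd (gp γ [16]) 2 :=
  Bd.step (ql8_fin (hR.subR (by decide +kernel)) (wordsIn_sound γ (L := []) (by decide +kernel))) (Bd.gp_nil γ) (by norm_num)
theorem qbd7 {G : Type*} [Group G] {γ : ℕ → G} (hR : Holds (ext γ) qRR) : Bd (gp γ [14, 16]) 4 :=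
  Bd.step (ql7_fin (hR.subR (by decide +kernel)) (wordsIn_sound γ (L := [16]) (by decide +kernel))) (qbd8 hR) (by norm_num)
theorem qbd6 {G : Type*} [Group G] {γ : ℕ → G} (hR : Holds (ext γ) qRR) : Bd (gp γ [12, 14, 16]) 8 :=
  Bd.step (ql6_fin (hR.subR (by decide +kernel)) (wordsIn_sound γ (L := [14, 16]) (by decide +kernel))) (qbd7 hR) (by norm_num)
theorem qbd5 {G : Type*} [Group G] {γ : ℕ → G} (hR : Holds (ext γ) qRR) : Bd (gp γ [10, 12, 14, 16]) 32 :=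
  Bd.step (ql5_fin (hR.subR (by decide +kernel)) (wordsIn_sound γ (L := [12, 14, 16]) (by decide +kernel))) (qbd6 hR) (by norm_num)
theorem qbd4 {G : Type*} [Group G] {γ : ℕ → G} (hR : Holds (ext γ) qRR) : Bd (gp γ [8, 10, 12, 14, 16]) 64 :=
  Bd.step (ql4_fin (hR.subR (by decide +kernel)) (wordsIn_sound γ (L := [10, 12, 14, 16]) (by decide +kernel))) (qbd5 hR) (by norm_num)
theorem qbd3 {G : Type*} [Group G] {γ : ℕ → G} (hR : Holds (ext γ) qRR) : Bd (gp γ [6, 8, 10, 12, 14, 16]) 128 :=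
  Bd.step (ql3_fin (hR.subR (by decide +kernel)) (wordsIn_sound γ (L := [8, 10, 12, 14, 16]) (by decide +kernel))) (qbd4 hR) (by norm_num)
theorem qbd2 {G : Type*} [Group G] {γ : ℕ → G} (hR : Holds (ext γ) qRR) : Bd (gp γ [4, 6, 8, 10, 12, 14, 16]) 1024 :=
  Bd.step (ql2_fin (hR.subR (by decide +kernel)) (wordsIn_sound γ (L := [6, 8, 10, 12, 14, 16]) (by decide +kernel))) (qbd3 hR) (by norm_num)
theorem qbd1 {G : Type*} [Group G] {γ : ℕ → G} (hR : Holds (ext γ) qRR) : Bd (gp γ [2, 4, 6, 8, 10, 12, 14, 16]) 10240 :=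
  Bd.step (ql1_fin (hR.subR (by decide +kernel)) (wordsIn_sound γ (L := [4, 6, 8, 10, 12, 14, 16]) (by decide +kernel))) (qbd2 hR) (by norm_num)
theorem qbd0 {G : Type*} [Group G] {γ : ℕ → G} (hR : Holds (ext γ) qRR) : Bd (gp γ [0, 2, 4, 6, 8, 10, 12, 14, 16]) 17971200 :=
  Bd.step (ql0_fin (hR.subR (by decide +kernel)) (wordsIn_sound γ (L := [2, 4, 6, 8, 10, 12, 14, 16]) (by decide +kernel))) (qbd1 hR) (by norm_num)

end Cfsg.Agent.TitsC
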