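import Cfsg.Agent.CGT.Act

set_option autoImplicit false
set_option Elab.async false
set_option maxRecDepth 100000
set_option linter.all false

namespace Cfsg.Agent.TitsC
open Cfsg.Agent.CGT

noncomputable def qRR : List (List ℕ) := [[0, 0], [2, 2], [8, 8], [12, 12], [14, 14], [16, 16], [16, 14, 16, 14], [12, 14, 12, 14], [12, 16, 12, 16], [11, 14, 10, 14], [11, 16, 10, 16], [11, 11, 11, 11], [12, 11, 12, 10, 14], [8, 12, 8, 12], [8, 16, 8, 16], [11, 8, 10, 8, 14], [7, 16, 6, 16], [11, 7, 7, 8, 11], [12, 6, 10, 6, 10], [10, 4, 6, 5, 8], [14, 5, 8, 4, 8, 12], [16, 8, 12, 4, 8, 5], [5, 5, 5, 5, 14, 16], [5, 10, 7, 5, 5, 10, 7, 5], [2, 10, 2, 10], [11, 2, 6, 2, 6, 12], [2, 5, 12, 2, 4, 2, 5, 5], [7, 5, 0, 5, 2, 4, 0, 4, 6, 2], [4, 10, 8, 5, 2, 4, 0, 6, 0, 7, 2, 0], [6, 0, 6, 5, 12, 0, 5, 6, 0, 10, 5, 11], [12, 0, 8, 10, 6, 0, 7, 11, 8, 0]]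

end Cfsg.Agent.TitsC
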